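import Cfsg.Agent.H10.HO.Words

/-!
# Long word checks for the automorphisms of the presented Held group, part C (helper10)

Generated: identities of words on the 2058 points of helper35's table (`decide +kernel`, by blocks).
-/

set_option autoImplicit false
set_option maxRecDepth 100000

namespace Cfsg.Agent.H10.HO

open Cfsg.Spor Cfsg.Agent.H35

theorem e_x3t6_0 : allR (idf (pw (xw ++ xw ++ xw ++ tw) 6) ([])) 2058 9 (0 * 2 ^ 9) = true := by decide +kernel
theorem e_x3t6_1 : allR (idf (pw (xw ++ xw ++ xw ++ tw) 6) ([])) 2058 9 (1 * 2 ^ 9) = true := by decide +kernel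
theorem e_x3t6_2 : allR (idf (pw (xw ++ xw ++ xw ++ tw) 6) ([])) 2058 9 (2 * 2 ^ 9) = true := by decide +kernel
theorem e_x3t6_3 : allR (idf (pw (xw ++ xw ++ xw ++ tw) 6) ([])) 2058 9 (3 * 2 ^ 9) = true := by decide +kernel
theorem e_x3t6_4 : allR (idf (pw (xw ++ xw ++ xw ++ tw) 6) ([])) 2058 9 (4 * 2 ^ 9) = true := by decide +kernel
theorem e_x3t6 : ∀ i, i < 2058 → idf (pw (xw ++ xw ++ xw ++ tw) 6) ([]) i = true := by
  apply allR_blocks (idf (pw (xw ++ xw ++ xw ++ tw) 6) ([])) 2058 9 5 _ (by decide)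
  intro k hk
  interval_cases k
  · exact e_x3t6_0
  · exact e_x3t6_1
  · exact e_x3t6_2
  · exact e_x3t6_3
  · exact e_x3t6_4
theorem e_xt10_0 : allR (idf (pw (xw ++ tw) 10) ([])) 2058 10 (0 * 2 ^ 10) = true := by decide +kernel
theorem e_xt10_1 : allR (idf (pw (xw ++ tw) 10) ([])) 2058 10 (1 * 2 ^ 10) = true := by decide +kernel
theorem e_xt10_2 : allR (idf (pw (xw ++ tw) 10) ([])) 2058 10 (2 * 2 ^ 10) = true := by decide +kernel
theorem e_xt10 : ∀ i, i < 2058 → idf (pw (xw ++ tw) 10) ([]) i = true := by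
  apply allR_blocks (idf (pw (xw ++ tw) 10) ([])) 2058 10 3 _ (by decide)
  intro k hk
  interval_cases k
  · exact e_xt10_0
  · exact e_xt10_1
  · exact e_xt10_2
theorem e_gd_0 : allR (idf ([.d]) (subW wd)) 2058 10 (0 * 2 ^ 10) = true := by decide +kernel
theorem e_gd_1 : allR (idf ([.d]) (subW wd)) 2058 10 (1 * 2 ^ 10) = true := by decide +kernel
theorem e_gd_2 : allR (idf ([.d]) (subW wd)) 2058 10 (2 * 2 ^ 10) = true := by decide +kernel
theorem e_gd : ∀ i, i < 2058 → idf ([.d]) (subW wd) i = true := by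
  apply allR_blocks (idf ([.d]) (subW wd)) 2058 10 3 _ (by decide)
  intro k hk
  interval_cases k
  · exact e_gd_0
  · exact e_gd_1
  · exact e_gd_2
theorem e_tz : ∀ i, i < 2058 → idf (tw ++ zw) (zw ++ tw) i = true :=
  allR_all (idf (tw ++ zw) (zw ++ tw)) 2058 12 (by decide) (by decide +kernel)

end Cfsg.Agent.H10.HO
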