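import Cfsg.Agent.H10.HO.Words

/-!
# Long word checks for the automorphisms of the presented Held group, part E (helper10)

Generated: identities of words on the 2058 points of helper35's table (`decide +kernel`, by blocks).
-/

set_option autoImplicit false
set_option maxRecDepth 100000

namespace Cfsg.Agent.H10.HO

open Cfsg.Spor Cfsg.Agent.H35

theorem e_ga_0 : allR (idf ([.a]) (subW wa)) 2058 9 (0 * 2 ^ 9) = true := by decide +kernel
theorem e_ga_1 : allR (idf ([.a]) (subW wa)) 2058 9 (1 * 2 ^ 9) = true := by decide +kernel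
theorem e_ga_2 : allR (idf ([.a]) (subW wa)) 2058 9 (2 * 2 ^ 9) = true := by decide +kernel
theorem e_ga_3 : allR (idf ([.a]) (subW wa)) 2058 9 (3 * 2 ^ 9) = true := by decide +kernel
theorem e_ga_4 : allR (idf ([.a]) (subW wa)) 2058 9 (4 * 2 ^ 9) = true := by decide +kernel
theorem e_ga : ∀ i, i < 2058 → idf ([.a]) (subW wa) i = true := by
  apply allR_blocks (idf ([.a]) (subW wa)) 2058 9 5 _ (by decide)
  intro k hk
  interval_cases k
  · exact e_ga_0
  · exact e_ga_1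
  · exact e_ga_2
  · exact e_ga_3
  · exact e_ga_4
theorem e_gc_0 : allR (idf ([.c]) (xw ++ nw ++ xw ++ xw ++ [He.Gen.g] ++ xw ++ [He.Gen.g] ++ xw ++ xw ++ nw.reverse ++ xw)) 2058 10 (0 * 2 ^ 10) = true := by decide +kernel
theorem e_gc_1 : allR (idf ([.c]) (xw ++ nw ++ xw ++ xw ++ [He.Gen.g] ++ xw ++ [He.Gen.g] ++ xw ++ xw ++ nw.reverse ++ xw)) 2058 10 (1 * 2 ^ 10) = true := by decide +kernel
theorem e_gc_2 : allR (idf ([.c]) (xw ++ nw ++ xw ++ xw ++ [He.Gen.g] ++ xw ++ [He.Gen.g] ++ xw ++ xw ++ nw.reverse ++ xw)) 2058 10 (2 * 2 ^ 10) = true := by decide +kernel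
theorem e_gc : ∀ i, i < 2058 → idf ([.c]) (xw ++ nw ++ xw ++ xw ++ [He.Gen.g] ++ xw ++ [He.Gen.g] ++ xw ++ xw ++ nw.reverse ++ xw) i = true := by
  apply allR_blocks (idf ([.c]) (xw ++ nw ++ xw ++ xw ++ [He.Gen.g] ++ xw ++ [He.Gen.g] ++ xw ++ xw ++ nw.reverse ++ xw)) 2058 10 3 _ (by decide)
  intro k hk
  interval_cases k
  · exact e_gc_0
  · exact e_gc_1
  · exact e_gc_2

end Cfsg.Agent.H10.HO
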