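import Mathlib
import Cfsg.Prelude.Def_KGroupFacts
import Cfsg.Agent.H35.HeGlue

/-!
helper10: exact piece statements for S2075 (`Nat.card (Cfsg.Out Cfsg.Spor.He) = 2`).

Plan.  `He` is the presented group on seven involutions `a … g`.  In `He`: `x` of order 17 inverted
by the generator `e`, `z` of order 8 with `z x z⁻¹ = x²` and `z⁴ = e`, an involution `t` commuting
with `z`, `t ∉ ⟨z⟩` (explicit words, checked in the faithful 2058-point model).  helper98 proved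
`C(e) ≅ C_{SL₅(2)}(transvection)`.

* CZM / CZ: an element of order 8 of `SL₅(2)` is a single Jordan block, so its centraliser has at most
  16 elements; hence `|C(z)| ≤ 16` for `z⁴ = e`.
* CZL: then `C(z) = ⟨z⟩ ∪ ⟨z⟩t`.
* NCXA / NCXB: `C(x) = ⟨x⟩` (`⟨z⟩` acts on `C(x)` without fixed points, so `|C(x)|` is odd; Sylow).
* FIXX: every automorphism fixing `x` is inner.
* OUT2H, NONINN, THETA: as for `Fi22` (helper20 / helper62), for the prime 17 and the diagram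
  symmetry `f ↔ g` of the presentation.
-/

set_option autoImplicit false

namespace Cfsg.Agent.H10.HO

open Cfsg.Spor Cfsg.Agent.H35

universe u

/-- `SL₅(2)` -/
abbrev SL52 : Type := Matrix.SpecialLinearGroup (Fin 5) (ZMod 2)

/-- CZM. -/
def StCZM : Prop := ∀ m : SL52, m ^ 8 = 1 → m ^ 4 ≠ 1 →
  Nat.card (Subgroup.centralizer ({m} : Set SL52)) ≤ 16

/-- CZ. -/
def StCZ : Prop := ∀ (G : Type u) [Group G] (e z : G) (s : SL52),
  Nonempty (↥(Subgroup.centralizer ({e} : Set G)) ≃* ↥(Subgroup.centralizer ({s} : Set SL52))) →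
  z ^ 4 = e → e ≠ 1 → e * e = 1 → StCZM →
  Nat.card (Subgroup.centralizer ({z} : Set G)) ≤ 16

/-- CZL. -/
def StCZL : Prop := ∀ (G : Type u) [Group G] [Finite G] (z t : G),
  Nat.card (Subgroup.centralizer ({z} : Set G)) ≤ 16 → z ^ 8 = 1 → z ^ 4 ≠ 1 →
  t * z = z * t → (∀ a : ℕ, a < 8 → t ≠ z ^ a) →
  ∀ g : G, g * z = z * g → ∃ a : ℕ, a < 8 ∧ (g = z ^ a ∨ g = z ^ a * t)

/-- NCXA. -/
def StNCXA : Prop := ∀ (G : Type u) [Group G] [Finite G] (x z t h : G) (S : Subgroup G),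
  x ^ 17 = 1 → z * x * z⁻¹ = x ^ 2 → z ^ 8 = 1 →
  (∀ g : G, g * z = z * g → ∃ a : ℕ, a < 8 ∧ (g = z ^ a ∨ g = z ^ a * t)) →
  (∀ a : ℕ, 0 < a → a < 8 → z ^ a * x ≠ x * z ^ a) →
  (∀ a : ℕ, a < 8 → z ^ a * t * x ≠ x * (z ^ a * t)) →
  Nat.card S = 1958400 → (∀ g : G, g * x = x * g → h * g * h⁻¹ ∈ S) →
  Odd (Nat.card (Subgroup.centralizer ({x} : Set G))) ∧
    Nat.card (Subgroup.centralizer ({x} : Set G)) ∣ 1958400

/-- NCXB. -/
def StNCXB : Prop := ∀ (G : Type u) [Group G] [Finite G] (x z : G) (m : ℕ),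
  Nat.card G = 17 * m → m % 17 = 8 → x ^ 17 = 1 → x ≠ 1 → z * x * z⁻¹ = x ^ 2 → z ^ 8 = 1 →
  (∀ g : G, g * z = z * g → g ^ 8 = 1) →
  Odd (Nat.card (Subgroup.centralizer ({x} : Set G))) →
  Nat.card (Subgroup.centralizer ({x} : Set G)) ∣ 1958400 →
  ∀ g : G, g * x = x * g → ∃ i : ℕ, g = x ^ i

/-- FIXX. -/
def StFIXX : Prop := ∀ (G : Type u) [Group G] [Finite G] (x z t : G),
  x ^ 17 = 1 → x ≠ 1 → z * x * z⁻¹ = x ^ 2 →
  (∀ g : G, g * x = x * g → ∃ i : ℕ, g = x ^ i) →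
  (∀ g : G, g * z = z * g → ∃ a : ℕ, a < 8 ∧ (g = z ^ a ∨ g = z ^ a * t)) →
  (∀ a : ℕ, a < 8 → t ≠ z ^ a) → t * z = z * t →
  (∀ a : ℕ, 0 < a → a < 8 → ∀ β : MulAut G, β x = x → β z = z → β t ≠ z ^ a * t) →
  (∀ β : MulAut G, β x = x → β z = z → β t = t → β = 1) →
  ∀ α : MulAut G, α x = x → ∃ g : G, α = MulAut.conj g

/-- OUT2H. -/
def StOut2H : Prop := ∀ (G : Type u) [Group G] [Finite G] (x : G) (m : ℕ),
  Nat.card G = 17 * m → ¬ 17 ∣ m → x ^ 17 = 1 → x ≠ 1 →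
  (∀ k : ℕ, k ^ 8 % 17 = 1 → ∃ ν : G, ν * x * ν⁻¹ = x ^ k) →
  (∀ α : MulAut G, α x = x → ∃ g : G, α = MulAut.conj g) →
  (∃ θ : MulAut G, ∀ g : G, θ ≠ MulAut.conj g) →
  Nat.card (Cfsg.Out G) = 2

/-- NONINN. -/
def StNonInn : Prop := ∀ (G : Type u) [Group G] [Finite G] (x ν : G) (m r : ℕ) (θ : MulAut G),
  Nat.card G = 17 * m → m % 17 = 8 → x ^ 17 = 1 → x ≠ 1 →
  (∀ g : G, g * x = x * g → ∃ i : ℕ, g = x ^ i) →
  r ^ 8 % 17 ≠ 1 → θ x = ν * x ^ r * ν⁻¹ →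
  ∀ g : G, θ ≠ MulAut.conj g

/-- The diagram symmetry `f ↔ g` of the presentation of `He`. -/
def sw : He.Gen → He.Gen
  | .a => .a
  | .b => .b
  | .c => .c
  | .d => .d
  | .e => .e
  | .f => .g
  | .g => .f

/-- THETA: the diagram symmetry is an automorphism as soon as the image of the last relator holds. -/
def StTheta : Prop :=
  uw he_gen [He.Gen.c, .d, .g, .f] ^ 4 = 1 →
  ∃ θ : MulAut He, ∀ s, θ (he_gen s) = he_gen (sw s)

end Cfsg.Agent.H10.HO
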