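import Mathlib
import Cfsg.Agent.H10.HO.Defs

/-!
helper10: one more piece statement for S2075 (`Out(He) = 2`).

`⟨x, z, t⟩` is only the point stabiliser `Sp₄(4):2` of the 2058-point action, so the automorphisms
fixing `x, z, t` are killed with a fourth element `n` normalising `⟨z⟩`:
`n⁻¹ β(n)` centralises every `d ∈ ⟨x, z, t⟩` with `n d n⁻¹ ∈ ⟨x, z, t⟩`, in particular `z`.
-/

set_option autoImplicit false

namespace Cfsg.Agent.H10.HO

universe u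

/-- the product of a word in the symbols `0 ↦ x, 1 ↦ x⁻¹, 2 ↦ z, 3 ↦ z⁻¹, other ↦ t` -/
def evS {G : Type u} [Group G] (x z t : G) : List ℕ → G
  | [] => 1
  | 0 :: w => x * evS x z t w
  | 1 :: w => x⁻¹ * evS x z t w
  | 2 :: w => z * evS x z t w
  | 3 :: w => z⁻¹ * evS x z t w
  | _ :: w => t * evS x z t w

/-- HG. -/
def StHG : Prop := ∀ (G : Type u) [Group G] (x z t n : G) (k : ℕ) (D : List (List ℕ × List ℕ)),
  (∀ g : G, g * z = z * g → ∃ a : ℕ, a < 8 ∧ (g = z ^ a ∨ g = z ^ a * t)) →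
  n * z * n⁻¹ = z ^ k →
  (∀ p ∈ D, n * evS x z t p.1 * n⁻¹ = evS x z t p.2) →
  (∀ a : ℕ, 0 < a → a < 8 → ∃ p ∈ D, z ^ a * evS x z t p.1 ≠ evS x z t p.1 * z ^ a) →
  (∀ a : ℕ, a < 8 → ∃ p ∈ D, z ^ a * t * evS x z t p.1 ≠ evS x z t p.1 * (z ^ a * t)) →
  Subgroup.closure {x, z, t, n} = ⊤ →
  ∀ β : MulAut G, β x = x → β z = z → β t = t → β = 1

end Cfsg.Agent.H10.HO
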