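import Cfsg.Agent.H10.HO.ChkA
import Cfsg.Agent.H10.HO.ChkB
import Cfsg.Agent.H10.HO.ChkC
import Cfsg.Agent.H10.HO.ChkD
import Cfsg.Agent.H10.HO.ChkE
import Cfsg.Agent.H98.HeF
import Cfsg.Agent.H44.HoCZM
import Cfsg.Agent.H88.HoCZ
import Cfsg.Agent.H53.HoCZL
import Cfsg.Agent.H53.HoNCXA
import Cfsg.Agent.H12.HoNCXB
import Cfsg.Agent.H3.HoFIXX
import Cfsg.Agent.H3.HoOut2H
import Cfsg.Agent.H83.HoNonInn
import Cfsg.Agent.H15.HoHG
import Cfsg.Agent.H15.HoTheta
import Cfsg.Agent.H91.F3NormP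

/-!
# The outer automorphism group of the presented Held group has order 2 (helper10)

Assembly of the team pieces (helper44: CZM, helper88: CZ, helper53: CZL and NCXA, helper12: NCXB,
helper3: FIXX and OUT2H, helper83: NONINN, helper15: HG and THETA, helper91: NORMP, helper98: the
centraliser of the generator `e`) with the word checks on the 2058 points.
-/

set_option autoImplicit false

namespace Cfsg.Agent.H10.HO

open Cfsg Cfsg.Spor Cfsg.Agent.H35 Cfsg.Agent.H10 Cfsg.Agent.H10.HeT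

theorem he_finite : Finite He := Cfsg.Agent.H10.HeT.top_bound.1
theorem he_card : Nat.card He = 4030387200 := Cfsg.Agent.H10.HeT.main.1
theorem he_simple : IsSimpleGroup He := Cfsg.Agent.H10.HeT.main.2

theorem ho_pmul {G : Type*} [Group G] {n : ℕ} (ρ : G →* Equiv.Perm (Fin n)) (g h : G) (p : Fin n) :
    (ρ (g * h))⁻¹ p = (ρ h)⁻¹ ((ρ g)⁻¹ p) := by
  rw [map_mul, mul_inv_rev, Equiv.Perm.mul_apply]

theorem ho_pinv {G : Type*} [Group G] {n : ℕ} (ρ : G →* Equiv.Perm (Fin n)) {g : G} {p q : Fin n}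
    (h : (ρ g)⁻¹ p = q) : (ρ g⁻¹)⁻¹ q = p := by
  rw [← h, ← ho_pmul, mul_inv_cancel, map_one, inv_one, Equiv.Perm.one_apply]

/-- the action on the 2058 points -/
theorem model0 : ∃ ρ : He →* Equiv.Perm (Fin 2058),
    (∀ (w : List He.Gen) (p : Fin 2058), t1683_pd.walk w p.val = ((ρ (uw he_gen w))⁻¹ p).val) ∧
    Hp = stabOf ρ ⟨0, by decide⟩ := by
  obtain ⟨ρ, hw, hst, -⟩ := tc_core perm_hyp (by decide : 0 < t1683_pd.N)
  exact ⟨ρ, hw, hst⟩

theorem ne_of {u v : List He.Gen} {p : ℕ} (h : idf u v p = false) (hp : p < 2058) :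
    uw he_gen u ≠ uw he_gen v := by
  obtain ⟨ρ, hw, -⟩ := model0
  intro he
  have h1 := hw u ⟨p, hp⟩
  have h2 := hw v ⟨p, hp⟩
  rw [he] at h1
  have h3 : t1683_pd.walk u p = t1683_pd.walk v p := h1.trans h2.symm
  unfold idf at h
  rw [h3, Nat.beq_refl] at h
  exact Bool.noConfusion h

theorem model : ∃ ρ : He →* Equiv.Perm (Fin 2058),
    (∀ (w : List He.Gen) (p : Fin 2058), t1683_pd.walk w p.val = ((ρ (uw he_gen w))⁻¹ p).val) ∧
    Hp = stabOf ρ ⟨0, by decide⟩ ∧ Function.Injective ρ := by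
  obtain ⟨ρ, hw, hst⟩ := model0
  refine ⟨ρ, hw, hst, ?_⟩
  have := he_simple
  rw [← MonoidHom.ker_eq_bot_iff]
  rcases (MonoidHom.normal_ker ρ).eq_bot_or_eq_top with h | h
  · exact h
  · exfalso
    have h1 : uw he_gen xw ∈ ρ.ker := by rw [h]; exact Subgroup.mem_top _
    rw [MonoidHom.mem_ker] at h1
    have key : ∀ {p : ℕ}, idf xw [] p = false → p < 2058 → False := by
      intro p hp hlt
      have h2 := hw xw ⟨p, hlt⟩
      rw [h1, inv_one, Equiv.Perm.one_apply] at h2
      unfold idf at hp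
      rw [h2] at hp
      exact Bool.noConfusion ((Nat.beq_refl p).symm.trans hp)
    exact key n_x (by decide)

theorem eq_of {u v : List He.Gen} (h : ∀ i, i < 2058 → idf u v i = true) :
    uw he_gen u = uw he_gen v := by
  obtain ⟨ρ, hw, -, hinj⟩ := model
  apply hinj
  have : (ρ (uw he_gen u))⁻¹ = (ρ (uw he_gen v))⁻¹ := by
    apply Equiv.ext
    intro p
    apply Fin.ext
    rw [← hw u p, ← hw v p]
    have h1 := h p.val p.isLt
    unfold idf at h1
    exact Nat.eq_of_beq_eq_true h1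
  exact inv_injective this

theorem uw_pw (w : List He.Gen) (k : ℕ) : uw he_gen (pw w k) = uw he_gen w ^ k := by
  induction k with
  | zero => show uw he_gen [] = _; rw [uw_nil, pow_zero]
  | succ k ih => show uw he_gen (w ++ pw w k) = _; rw [uw_append, ih, pow_succ']

theorem uw_rev (w : List He.Gen) : uw he_gen w.reverse = (uw he_gen w)⁻¹ :=
  uw_reverse he_gen he_inv w

local notation "gX" => uw he_gen xw
local notation "gZ" => uw he_gen zw
local notation "gT" => uw he_gen tw
local notation "gN" => uw he_gen nw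
local notation "gNu" => uw he_gen nuw
local notation "gH" => uw he_gen h0w

theorem hx17 : gX ^ 17 = 1 := by
  have h := eq_of e_x17
  rw [uw_pw, uw_nil] at h
  exact h

theorem hx1 : gX ≠ 1 := by
  have h := ne_of n_x (by decide)
  rwa [uw_nil] at h

theorem hzxz : gZ * gX * gZ⁻¹ = gX ^ 2 := by
  have h := eq_of e_zxz
  simp only [uw_append, uw_rev] at h
  rw [pow_two]
  exact h

theorem hz4 : gZ ^ 4 = he_gen He.Gen.e := by
  have h := eq_of e_z4
  rw [uw_pw, uw_singleton] at h
  exact h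

theorem hene : he_gen He.Gen.e ≠ 1 := by
  have h := ne_of n_e (by decide)
  rwa [uw_singleton, uw_nil] at h

theorem hz8 : gZ ^ 8 = 1 := by
  have h : gZ ^ 8 = (gZ ^ 4) ^ 2 := by rw [← pow_mul]
  rw [h, hz4, pow_two, he_inv]

theorem hz4ne : gZ ^ 4 ≠ 1 := by
  rw [hz4]; exact hene

theorem htz : gT * gZ = gZ * gT := by
  have h := eq_of e_tz
  simp only [uw_append] at h
  exact h

theorem htt : gT * gT = 1 := by
  have h := eq_of e_tt
  rw [uw_append, uw_nil] at h
  exact h

theorem htne : ∀ a : ℕ, a < 8 → gT ≠ gZ ^ a := by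
  intro a ha
  interval_cases a
  · have h := ne_of n_t0 (by decide)
    rwa [uw_pw] at h
  · have h := ne_of n_t1 (by decide)
    rwa [uw_pw] at h
  · have h := ne_of n_t2 (by decide)
    rwa [uw_pw] at h
  · have h := ne_of n_t3 (by decide)
    rwa [uw_pw] at h
  · have h := ne_of n_t4 (by decide)
    rwa [uw_pw] at h
  · have h := ne_of n_t5 (by decide)
    rwa [uw_pw] at h
  · have h := ne_of n_t6 (by decide)
    rwa [uw_pw] at h
  · have h := ne_of n_t7 (by decide)
    rwa [uw_pw] at h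

theorem hzx : ∀ a : ℕ, 0 < a → a < 8 → gZ ^ a * gX ≠ gX * gZ ^ a := by
  intro a h0 ha
  interval_cases a
  · have h := ne_of n_zx1 (by decide)
    simp only [uw_append, uw_pw] at h
    exact h
  · have h := ne_of n_zx2 (by decide)
    simp only [uw_append, uw_pw] at h
    exact h
  · have h := ne_of n_zx3 (by decide)
    simp only [uw_append, uw_pw] at h
    exact h
  · have h := ne_of n_zx4 (by decide)
    simp only [uw_append, uw_pw] at h
    exact h
  · have h := ne_of n_zx5 (by decide)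
    simp only [uw_append, uw_pw] at h
    exact h
  · have h := ne_of n_zx6 (by decide)
    simp only [uw_append, uw_pw] at h
    exact h
  · have h := ne_of n_zx7 (by decide)
    simp only [uw_append, uw_pw] at h
    exact h

theorem hztx : ∀ a : ℕ, a < 8 → gZ ^ a * gT * gX ≠ gX * (gZ ^ a * gT) := by
  intro a ha
  interval_cases a
  · have h := ne_of n_ztx0 (by decide)
    simp only [uw_append, uw_pw] at h
    exact h
  · have h := ne_of n_ztx1 (by decide)
    simp only [uw_append, uw_pw] at h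
    exact h
  · have h := ne_of n_ztx2 (by decide)
    simp only [uw_append, uw_pw] at h
    exact h
  · have h := ne_of n_ztx3 (by decide)
    simp only [uw_append, uw_pw] at h
    exact h
  · have h := ne_of n_ztx4 (by decide)
    simp only [uw_append, uw_pw] at h
    exact h
  · have h := ne_of n_ztx5 (by decide)
    simp only [uw_append, uw_pw] at h
    exact h
  · have h := ne_of n_ztx6 (by decide)
    simp only [uw_append, uw_pw] at h
    exact h
  · have h := ne_of n_ztx7 (by decide)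
    simp only [uw_append, uw_pw] at h
    exact h

theorem hcardS : Nat.card Hp = 1958400 := by
  have h2 := Subgroup.card_mul_index Hp
  rw [tc_index perm_hyp, he_card] at h2
  have h3 : t1683_pd.N = 2058 := rfl
  rw [h3] at h2
  have h4 : (4030387200 : ℕ) = 1958400 * 2058 := by norm_num
  rw [h4] at h2
  exact Nat.eq_of_mul_eq_mul_right (by norm_num) h2

theorem hconj : ∀ g : He, g * gX = gX * g → gH * g * gH⁻¹ ∈ Hp := by
  intro g hg
  obtain ⟨ρ, hw, hst, -⟩ := model
  rw [hst, mem_stabOf]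
  have hh : (ρ gH)⁻¹ ⟨0, by decide⟩ = ⟨544, by decide⟩ := Fin.ext ((hw h0w ⟨0, by decide⟩).symm.trans e_h0)
  have hxb : (ρ gX)⁻¹ ⟨544, by decide⟩ = ⟨544, by decide⟩ :=
    Fin.ext ((hw xw ⟨544, by decide⟩).symm.trans e_x544)
  have hq : (ρ gX)⁻¹ ((ρ g)⁻¹ ⟨544, by decide⟩) = (ρ g)⁻¹ ⟨544, by decide⟩ := by
    rw [← ho_pmul, hg, ho_pmul, hxb]
  have hgb : (ρ g)⁻¹ ⟨544, by decide⟩ = ⟨544, by decide⟩ := by
    have h1 := e_fx ((ρ g)⁻¹ ⟨544, by decide⟩).val ((ρ g)⁻¹ ⟨544, by decide⟩).isLt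
    unfold fxf at h1
    rw [Bool.or_eq_true] at h1
    rcases h1 with h1 | h1
    · exact Fin.ext (Nat.eq_of_beq_eq_true h1)
    · exfalso
      have h2 := hw xw ((ρ g)⁻¹ ⟨544, by decide⟩)
      rw [hq] at h2
      rw [h2, Nat.beq_refl] at h1
      exact absurd h1 (by decide)
  have h1 : (ρ (gH * g * gH⁻¹))⁻¹ ⟨0, by decide⟩ = ⟨0, by decide⟩ := by
    rw [ho_pmul, ho_pmul, hh, hgb]
    exact ho_pinv ρ hh
  rw [Equiv.Perm.inv_eq_iff_eq] at h1
  exact h1.symm

theorem hCZ : Nat.card (Subgroup.centralizer ({gZ} : Set He)) ≤ 16 :=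
  Cfsg.Agent.H88.Ho.cz He (he_gen He.Gen.e) gZ Cfsg.Agent.H98.TransvCent.s0
    (Cfsg.Agent.H98.HeC.he_centralizer_equiv ⟨he_simple, he_card⟩) hz4 hene (he_inv _)
    Cfsg.Agent.H44.Ho.czm

theorem hL : ∀ g : He, g * gZ = gZ * g → ∃ a : ℕ, a < 8 ∧ (g = gZ ^ a ∨ g = gZ ^ a * gT) := by
  haveI := he_finite
  exact Cfsg.Agent.H53.Ho.cZL He gZ gT hCZ hz8 hz4ne htz htne

theorem h8 : ∀ g : He, g * gZ = gZ * g → g ^ 8 = 1 := by
  intro g hg
  obtain ⟨a, -, h | h⟩ := hL g hg
  · rw [h, ← pow_mul, Nat.mul_comm a 8, pow_mul, hz8, one_pow]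
  · have hc : Commute (gZ ^ a) gT := (Commute.pow_left (show Commute gZ gT from htz.symm) a)
    have ht8 : gT ^ 8 = 1 := by
      have : gT ^ 8 = (gT * gT) ^ 4 := by rw [← pow_two, ← pow_mul]
      rw [this, htt, one_pow]
    rw [h, hc.mul_pow, ← pow_mul, Nat.mul_comm a 8, pow_mul, hz8, one_pow, ht8, one_mul]

theorem hC : ∀ g : He, g * gX = gX * g → ∃ i : ℕ, g = gX ^ i := by
  haveI := he_finite
  have hA := Cfsg.Agent.H53.Ho.nCXA He gX gZ gT gH Hp hx17 hzxz hz8 hL hzx hztx hcardS hconj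
  exact Cfsg.Agent.H12.Ho.ncxb He gX gZ 237081600 (he_card.trans (by norm_num)) (by norm_num)
    hx17 hx1 hzxz hz8 h8 hA.1 hA.2

theorem hR : ∀ a : ℕ, 0 < a → a < 8 → ∀ β : MulAut He, β gX = gX → β gZ = gZ →
    β gT ≠ gZ ^ a * gT := by
  intro a h0 ha β hx hz ht
  have e1 : (gX * gT) ^ 10 = 1 := by
    have h := eq_of e_xt10
    simp only [uw_pw, uw_append, uw_nil] at h
    exact h
  have e3 : (gX * gX * gX * gT) ^ 6 = 1 := by
    have h := eq_of e_x3t6
    simp only [uw_pw, uw_append, uw_nil] at h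
    exact h
  have f1 := congrArg β e1
  have f3 := congrArg β e3
  simp only [map_pow, map_mul, hx, ht, map_one] at f1 f3
  interval_cases a
  · have h := ne_of n_r1 (by decide)
    simp only [uw_pw, uw_append, uw_nil] at h
    apply h
    rw [mul_assoc]
    exact f1
  · have h := ne_of n_r2 (by decide)
    simp only [uw_pw, uw_append, uw_nil] at h
    apply h
    rw [mul_assoc]
    exact f1
  · have h := ne_of n_r3 (by decide)
    simp only [uw_pw, uw_append, uw_nil] at h
    apply h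
    simp only [mul_assoc] at f3 ⊢
    exact f3
  · have h := ne_of n_r4 (by decide)
    simp only [uw_pw, uw_append, uw_nil] at h
    apply h
    rw [mul_assoc]
    exact f1
  · have h := ne_of n_r5 (by decide)
    simp only [uw_pw, uw_append, uw_nil] at h
    apply h
    simp only [mul_assoc] at f3 ⊢
    exact f3
  · have h := ne_of n_r6 (by decide)
    simp only [uw_pw, uw_append, uw_nil] at h
    apply h
    rw [mul_assoc]
    exact f1
  · have h := ne_of n_r7 (by decide)
    simp only [uw_pw, uw_append, uw_nil] at h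
    apply h
    rw [mul_assoc]
    exact f1

theorem evS_sub : ∀ w : List ℕ, evS gX gZ gT w = uw he_gen (subW w)
  | [] => by show (1 : He) = uw he_gen []; rw [uw_nil]
  | 0 :: w => by
    show gX * evS gX gZ gT w = uw he_gen (xw ++ subW w)
    rw [uw_append, evS_sub w]
  | 1 :: w => by
    show gX⁻¹ * evS gX gZ gT w = uw he_gen (xw.reverse ++ subW w)
    rw [uw_append, uw_rev, evS_sub w]
  | 2 :: w => by
    show gZ * evS gX gZ gT w = uw he_gen (zw ++ subW w)
    rw [uw_append, evS_sub w]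
  | 3 :: w => by
    show gZ⁻¹ * evS gX gZ gT w = uw he_gen (zw.reverse ++ subW w)
    rw [uw_append, uw_rev, evS_sub w]
  | (k + 4) :: w => by
    show gT * evS gX gZ gT w = uw he_gen (tw ++ subW w)
    rw [uw_append, evS_sub w]

theorem evS_mem : ∀ w : List ℕ, evS gX gZ gT w ∈ Subgroup.closure ({gX, gZ, gT, gN} : Set He)
  | [] => by show (1 : He) ∈ _; exact one_mem _
  | 0 :: w => by
    show gX * evS gX gZ gT w ∈ _
    exact mul_mem (Subgroup.subset_closure (by simp)) (evS_mem w)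
  | 1 :: w => by
    show gX⁻¹ * evS gX gZ gT w ∈ _
    exact mul_mem (inv_mem (Subgroup.subset_closure (by simp))) (evS_mem w)
  | 2 :: w => by
    show gZ * evS gX gZ gT w ∈ _
    exact mul_mem (Subgroup.subset_closure (by simp)) (evS_mem w)
  | 3 :: w => by
    show gZ⁻¹ * evS gX gZ gT w ∈ _
    exact mul_mem (inv_mem (Subgroup.subset_closure (by simp))) (evS_mem w)
  | (k + 4) :: w => by
    show gT * evS gX gZ gT w ∈ _
    exact mul_mem (Subgroup.subset_closure (by simp)) (evS_mem w)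

theorem hnz : gN * gZ * gN⁻¹ = gZ ^ 3 := by
  have h := eq_of e_nz
  simp only [uw_append, uw_rev, uw_pw] at h
  exact h

theorem hD : ∀ p ∈ [(du0, dv0), (du1, dv1)], gN * evS gX gZ gT p.1 * gN⁻¹ = evS gX gZ gT p.2 := by
  intro p hp
  simp only [List.mem_cons, List.not_mem_nil, or_false] at hp
  rcases hp with rfl | rfl
  · show gN * evS gX gZ gT du0 * gN⁻¹ = evS gX gZ gT dv0
    rw [evS_sub, evS_sub]
    have h := eq_of e_d0
    simp only [uw_append, uw_rev] at h
    exact h
  · show gN * evS gX gZ gT du1 * gN⁻¹ = evS gX gZ gT dv1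
    rw [evS_sub, evS_sub]
    have h := eq_of e_d1
    simp only [uw_append, uw_rev] at h
    exact h

theorem hDz : ∀ a : ℕ, 0 < a → a < 8 → ∃ p ∈ [(du0, dv0), (du1, dv1)],
    gZ ^ a * evS gX gZ gT p.1 ≠ evS gX gZ gT p.1 * gZ ^ a := by
  intro a h0 ha
  refine ⟨(du0, dv0), by simp, ?_⟩
  show gZ ^ a * evS gX gZ gT du0 ≠ evS gX gZ gT du0 * gZ ^ a
  rw [evS_sub]
  interval_cases a
  · have h := ne_of n_dz1 (by decide)
    simp only [uw_append, uw_pw] at h
    exact h
  · have h := ne_of n_dz2 (by decide)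
    simp only [uw_append, uw_pw] at h
    exact h
  · have h := ne_of n_dz3 (by decide)
    simp only [uw_append, uw_pw] at h
    exact h
  · have h := ne_of n_dz4 (by decide)
    simp only [uw_append, uw_pw] at h
    exact h
  · have h := ne_of n_dz5 (by decide)
    simp only [uw_append, uw_pw] at h
    exact h
  · have h := ne_of n_dz6 (by decide)
    simp only [uw_append, uw_pw] at h
    exact h
  · have h := ne_of n_dz7 (by decide)
    simp only [uw_append, uw_pw] at h
    exact h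

theorem hDt : ∀ a : ℕ, a < 8 → ∃ p ∈ [(du0, dv0), (du1, dv1)],
    gZ ^ a * gT * evS gX gZ gT p.1 ≠ evS gX gZ gT p.1 * (gZ ^ a * gT) := by
  intro a ha
  interval_cases a
  · refine ⟨(du1, dv1), by simp, ?_⟩
    show gZ ^ 0 * gT * evS gX gZ gT du1 ≠ evS gX gZ gT du1 * (gZ ^ 0 * gT)
    rw [evS_sub]
    have h := ne_of n_dt0 (by decide)
    simp only [uw_append, uw_pw] at h
    exact h
  · refine ⟨(du0, dv0), by simp, ?_⟩
    show gZ ^ 1 * gT * evS gX gZ gT du0 ≠ evS gX gZ gT du0 * (gZ ^ 1 * gT)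
    rw [evS_sub]
    have h := ne_of n_dt1 (by decide)
    simp only [uw_append, uw_pw] at h
    exact h
  · refine ⟨(du0, dv0), by simp, ?_⟩
    show gZ ^ 2 * gT * evS gX gZ gT du0 ≠ evS gX gZ gT du0 * (gZ ^ 2 * gT)
    rw [evS_sub]
    have h := ne_of n_dt2 (by decide)
    simp only [uw_append, uw_pw] at h
    exact h
  · refine ⟨(du0, dv0), by simp, ?_⟩
    show gZ ^ 3 * gT * evS gX gZ gT du0 ≠ evS gX gZ gT du0 * (gZ ^ 3 * gT)
    rw [evS_sub]
    have h := ne_of n_dt3 (by decide)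
    simp only [uw_append, uw_pw] at h
    exact h
  · refine ⟨(du0, dv0), by simp, ?_⟩
    show gZ ^ 4 * gT * evS gX gZ gT du0 ≠ evS gX gZ gT du0 * (gZ ^ 4 * gT)
    rw [evS_sub]
    have h := ne_of n_dt4 (by decide)
    simp only [uw_append, uw_pw] at h
    exact h
  · refine ⟨(du0, dv0), by simp, ?_⟩
    show gZ ^ 5 * gT * evS gX gZ gT du0 ≠ evS gX gZ gT du0 * (gZ ^ 5 * gT)
    rw [evS_sub]
    have h := ne_of n_dt5 (by decide)
    simp only [uw_append, uw_pw] at h
    exact h
  · refine ⟨(du0, dv0), by simp, ?_⟩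
    show gZ ^ 6 * gT * evS gX gZ gT du0 ≠ evS gX gZ gT du0 * (gZ ^ 6 * gT)
    rw [evS_sub]
    have h := ne_of n_dt6 (by decide)
    simp only [uw_append, uw_pw] at h
    exact h
  · refine ⟨(du0, dv0), by simp, ?_⟩
    show gZ ^ 7 * gT * evS gX gZ gT du0 ≠ evS gX gZ gT du0 * (gZ ^ 7 * gT)
    rw [evS_sub]
    have h := ne_of n_dt7 (by decide)
    simp only [uw_append, uw_pw] at h
    exact h

theorem hcl : Subgroup.closure ({gX, gZ, gT, gN} : Set He) = ⊤ := by
  have hgen : Subgroup.closure (Set.range he_gen) = ⊤ := PresentedGroup.closure_range_of _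
  have hXm : gX ∈ Subgroup.closure ({gX, gZ, gT, gN} : Set He) := Subgroup.subset_closure (by simp)
  have hZm : gZ ∈ Subgroup.closure ({gX, gZ, gT, gN} : Set He) := Subgroup.subset_closure (by simp)
  have hNm : gN ∈ Subgroup.closure ({gX, gZ, gT, gN} : Set He) := Subgroup.subset_closure (by simp)
  have ma : he_gen He.Gen.a ∈ Subgroup.closure ({gX, gZ, gT, gN} : Set He) := by
    have h := eq_of e_ga
    rw [uw_singleton, ← evS_sub] at h
    rw [h]; exact evS_mem _
  have mb : he_gen He.Gen.b ∈ Subgroup.closure ({gX, gZ, gT, gN} : Set He) := by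
    have h := eq_of e_gb
    rw [uw_singleton, ← evS_sub] at h
    rw [h]; exact evS_mem _
  have md : he_gen He.Gen.d ∈ Subgroup.closure ({gX, gZ, gT, gN} : Set He) := by
    have h := eq_of e_gd
    rw [uw_singleton, ← evS_sub] at h
    rw [h]; exact evS_mem _
  have mg : he_gen He.Gen.g ∈ Subgroup.closure ({gX, gZ, gT, gN} : Set He) := by
    have h := eq_of e_gg
    rw [uw_singleton, ← evS_sub] at h
    rw [h]; exact evS_mem _
  have me : he_gen He.Gen.e ∈ Subgroup.closure ({gX, gZ, gT, gN} : Set He) := by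
    rw [← hz4]; exact pow_mem hZm 4
  have mc : he_gen He.Gen.c ∈ Subgroup.closure ({gX, gZ, gT, gN} : Set He) := by
    have h := eq_of e_gc
    simp only [uw_append, uw_singleton, uw_rev] at h
    rw [h]
    apply_rules [mul_mem, inv_mem]
  have mf : he_gen He.Gen.f ∈ Subgroup.closure ({gX, gZ, gT, gN} : Set He) := by
    have h := eq_of e_gf
    simp only [uw_append, uw_cons, uw_nil, mul_one] at h
    rw [h]
    apply_rules [mul_mem, inv_mem]
  rw [eq_top_iff, ← hgen, Subgroup.closure_le]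
  rintro _ ⟨s, rfl⟩
  cases s
  · exact ma
  · exact mb
  · exact mc
  · exact md
  · exact me
  · exact mf
  · exact mg

theorem hG : ∀ β : MulAut He, β gX = gX → β gZ = gZ → β gT = gT → β = 1 :=
  Cfsg.Agent.H15.Ho.hg He gX gZ gT gN 3 [(du0, dv0), (du1, dv1)] hL hnz hD hDz hDt hcl

theorem hfix : ∀ α : MulAut He, α gX = gX → ∃ g : He, α = MulAut.conj g := by
  haveI := he_finite
  exact Cfsg.Agent.H3.Ho.fixx He gX gZ gT hx17 hx1 hzxz hC hL htne htz hR hG

theorem theta_uw (θ : MulAut He) (hθ : ∀ s, θ (he_gen s) = he_gen (sw s)) :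
    ∀ w : List He.Gen, θ (uw he_gen w) = uw he_gen (w.map sw)
  | [] => by rw [List.map_nil, uw_nil, map_one]
  | s :: w => by rw [List.map_cons, uw_cons, uw_cons, map_mul, hθ, theta_uw θ hθ w]

theorem out_he : Nat.card (Cfsg.Out He) = 2 := by
  haveI := he_finite
  have hnorm := Cfsg.Agent.H91.FO.normP He 17 gX 237081600 8 (by norm_num)
    (he_card.trans (by norm_num)) (by norm_num) (by norm_num) hx17 hx1 hC
  have hth : uw he_gen [He.Gen.c, .d, .g, .f] ^ 4 = 1 := by
    have h := eq_of e_th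
    rw [uw_pw, uw_nil] at h
    exact h
  obtain ⟨θ, hθ⟩ := Cfsg.Agent.H15.Ho.theta hth
  have hθx : θ gX = gNu * gX ^ 3 * gNu⁻¹ := by
    rw [theta_uw θ hθ]
    have h := eq_of e_nu
    simp only [uw_append, uw_rev, uw_pw] at h
    exact h
  have hni := Cfsg.Agent.H83.Ho.nonInn He gX gNu 237081600 3 θ (he_card.trans (by norm_num))
    (by norm_num) hx17 hx1 hC (by norm_num) hθx
  exact Cfsg.Agent.H3.Ho.out2h He gX 237081600 (he_card.trans (by norm_num)) (by norm_num)
    hx17 hx1 hnorm hfix ⟨θ, hni⟩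

end Cfsg.Agent.H10.HO
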