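import Cfsg.Agent.H10.HeT.Main
import Cfsg.Agent.H10.HO.Defs2

/-!
# Words for the automorphisms of the presented Held group, and the small checks (helper10)

Generated data: words in the generators `a … g` for the elements `x` (order 17), `z` (order 8),
`t`, `n`, `ν`, and the small checks of word identities / non-identities on the 2058 points of
helper35's table `t1683_pd` (`decide +kernel`).  The long checks are in `ChkA … ChkD`.
-/

set_option autoImplicit false
set_option maxRecDepth 100000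

namespace Cfsg.Agent.H10.HO

open Cfsg.Spor Cfsg.Agent.H35

/-- the word `w ^ k` -/
def pw (w : List He.Gen) : ℕ → List He.Gen
  | 0 => []
  | k + 1 => w ++ pw w k

/-- two words act in the same way on a point -/
noncomputable def idf (u v : List He.Gen) (p : ℕ) : Bool :=
  Nat.beq (t1683_pd.walk u p) (t1683_pd.walk v p)

/-- `x` fixes only the point 544 -/
noncomputable def fxf (w : List He.Gen) (p : ℕ) : Bool :=
  Nat.beq p 544 || !(Nat.beq (t1683_pd.walk w p) p)

def xw : List He.Gen := [.e, .d, .f, .c, .d, .b, .c, .d, .e, .d, .c, .b, .d, .c, .f, .d]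
def zw : List He.Gen := [.a, .b, .d, .e, .g, .d, .c, .b, .f, .d, .c, .d, .g, .e, .d, .c, .d, .f, .b, .c, .d, .g, .e, .d]
def tw : List He.Gen := [.a, .b, .a, .g, .b]
def nw : List He.Gen := [.b, .f, .g]
def nuw : List He.Gen := [.a, .c, .d, .e, .f, .d, .c, .b, .d, .f, .g, .d, .e, .c, .d, .g, .e, .d, .f, .c, .b]
def h0w : List He.Gen := [.b, .c, .d, .c, .d, .g, .f, .d, .c, .d, .c]

/-- substitution of the words for the symbols of `evS` -/
def subW : List ℕ → List He.Gen
  | [] => []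
  | 0 :: w => xw ++ subW w
  | 1 :: w => xw.reverse ++ subW w
  | 2 :: w => zw ++ subW w
  | 3 :: w => zw.reverse ++ subW w
  | _ :: w => tw ++ subW w

def du0 : List ℕ := [0, 0, 0, 4, 1, 1, 1, 4, 1, 2, 2, 1, 4, 1]
def dv0 : List ℕ := [1, 2, 2, 4, 1, 4, 1, 4, 3, 1, 4, 1, 2, 1]
def du1 : List ℕ := [4, 0, 0, 4, 1, 2, 1, 4, 0, 0, 0, 4, 0]
def dv1 : List ℕ := [2, 1, 4, 1, 1, 1, 4, 0, 3, 0, 4, 1, 1, 4, 3]
def wa : List ℕ := [2, 0, 0, 4, 1, 1, 1, 4, 1, 3, 1, 4, 1, 4, 1, 4, 3, 1]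
def wb : List ℕ := [0, 0, 4, 0, 0, 4, 0, 4, 1, 4, 1, 1, 4, 1, 1]
def wd : List ℕ := [4, 1, 2, 4, 0, 2, 4, 2, 2, 0, 4]
def wg : List ℕ := [4, 1, 3, 3, 3, 4, 1, 4, 0, 4, 3, 1]

theorem e_tt : ∀ i, i < 2058 → idf (tw ++ tw) ([]) i = true :=
  allR_all (idf (tw ++ tw) ([])) 2058 12 (by decide) (by decide +kernel)
theorem e_gf : ∀ i, i < 2058 → idf ([.f]) (nw ++ [.b, .g]) i = true :=
  allR_all (idf ([.f]) (nw ++ [.b, .g])) 2058 12 (by decide) (by decide +kernel)
theorem e_th : ∀ i, i < 2058 → idf (pw [.c, .d, .g, .f] 4) ([]) i = true :=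
  allR_all (idf (pw [.c, .d, .g, .f] 4) ([])) 2058 12 (by decide) (by decide +kernel)
theorem e_fx : ∀ i, i < 2058 → fxf xw i = true :=
  allR_all (fxf xw) 2058 12 (by decide) (by decide +kernel)
theorem e_h0 : t1683_pd.walk h0w 0 = 544 := by decide +kernel
theorem e_x544 : t1683_pd.walk xw 544 = 544 := by decide +kernel
theorem n_x : idf (xw) ([]) 0 = false := by decide +kernel
theorem n_e : idf ([.e]) ([]) 5 = false := by decide +kernel
theorem n_t0 : idf (tw) (pw zw 0) 0 = false := by decide +kernel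
theorem n_t1 : idf (tw) (pw zw 1) 0 = false := by decide +kernel
theorem n_t2 : idf (tw) (pw zw 2) 0 = false := by decide +kernel
theorem n_t3 : idf (tw) (pw zw 3) 0 = false := by decide +kernel
theorem n_t4 : idf (tw) (pw zw 4) 0 = false := by decide +kernel
theorem n_t5 : idf (tw) (pw zw 5) 0 = false := by decide +kernel
theorem n_t6 : idf (tw) (pw zw 6) 0 = false := by decide +kernel
theorem n_t7 : idf (tw) (pw zw 7) 0 = false := by decide +kernel
theorem n_zx1 : idf (pw zw 1 ++ xw) (xw ++ pw zw 1) 0 = false := by decide +kernel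
theorem n_zx2 : idf (pw zw 2 ++ xw) (xw ++ pw zw 2) 0 = false := by decide +kernel
theorem n_zx3 : idf (pw zw 3 ++ xw) (xw ++ pw zw 3) 0 = false := by decide +kernel
theorem n_zx4 : idf (pw zw 4 ++ xw) (xw ++ pw zw 4) 0 = false := by decide +kernel
theorem n_zx5 : idf (pw zw 5 ++ xw) (xw ++ pw zw 5) 0 = false := by decide +kernel
theorem n_zx6 : idf (pw zw 6 ++ xw) (xw ++ pw zw 6) 0 = false := by decide +kernel
theorem n_zx7 : idf (pw zw 7 ++ xw) (xw ++ pw zw 7) 0 = false := by decide +kernel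
theorem n_ztx0 : idf (pw zw 0 ++ tw ++ xw) (xw ++ (pw zw 0 ++ tw)) 0 = false := by decide +kernel
theorem n_ztx1 : idf (pw zw 1 ++ tw ++ xw) (xw ++ (pw zw 1 ++ tw)) 0 = false := by decide +kernel
theorem n_ztx2 : idf (pw zw 2 ++ tw ++ xw) (xw ++ (pw zw 2 ++ tw)) 0 = false := by decide +kernel
theorem n_ztx3 : idf (pw zw 3 ++ tw ++ xw) (xw ++ (pw zw 3 ++ tw)) 0 = false := by decide +kernel
theorem n_ztx4 : idf (pw zw 4 ++ tw ++ xw) (xw ++ (pw zw 4 ++ tw)) 0 = false := by decide +kernel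
theorem n_ztx5 : idf (pw zw 5 ++ tw ++ xw) (xw ++ (pw zw 5 ++ tw)) 0 = false := by decide +kernel
theorem n_ztx6 : idf (pw zw 6 ++ tw ++ xw) (xw ++ (pw zw 6 ++ tw)) 0 = false := by decide +kernel
theorem n_ztx7 : idf (pw zw 7 ++ tw ++ xw) (xw ++ (pw zw 7 ++ tw)) 0 = false := by decide +kernel
theorem n_r1 : idf (pw (xw ++ pw zw 1 ++ tw) 10) ([]) 0 = false := by decide +kernel
theorem n_r2 : idf (pw (xw ++ pw zw 2 ++ tw) 10) ([]) 0 = false := by decide +kernel
theorem n_r4 : idf (pw (xw ++ pw zw 4 ++ tw) 10) ([]) 0 = false := by decide +kernel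
theorem n_r6 : idf (pw (xw ++ pw zw 6 ++ tw) 10) ([]) 0 = false := by decide +kernel
theorem n_r7 : idf (pw (xw ++ pw zw 7 ++ tw) 10) ([]) 0 = false := by decide +kernel
theorem n_r3 : idf (pw (xw ++ xw ++ xw ++ pw zw 3 ++ tw) 6) ([]) 0 = false := by decide +kernel
theorem n_r5 : idf (pw (xw ++ xw ++ xw ++ pw zw 5 ++ tw) 6) ([]) 0 = false := by decide +kernel
theorem n_dz1 : idf (pw zw 1 ++ subW du0) (subW du0 ++ pw zw 1) 0 = false := by decide +kernel
theorem n_dz2 : idf (pw zw 2 ++ subW du0) (subW du0 ++ pw zw 2) 0 = false := by decide +kernel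
theorem n_dz3 : idf (pw zw 3 ++ subW du0) (subW du0 ++ pw zw 3) 0 = false := by decide +kernel
theorem n_dz4 : idf (pw zw 4 ++ subW du0) (subW du0 ++ pw zw 4) 0 = false := by decide +kernel
theorem n_dz5 : idf (pw zw 5 ++ subW du0) (subW du0 ++ pw zw 5) 0 = false := by decide +kernel
theorem n_dz6 : idf (pw zw 6 ++ subW du0) (subW du0 ++ pw zw 6) 0 = false := by decide +kernel
theorem n_dz7 : idf (pw zw 7 ++ subW du0) (subW du0 ++ pw zw 7) 0 = false := by decide +kernel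
theorem n_dt0 : idf (pw zw 0 ++ tw ++ subW du1) (subW du1 ++ (pw zw 0 ++ tw)) 0 = false := by decide +kernel
theorem n_dt1 : idf (pw zw 1 ++ tw ++ subW du0) (subW du0 ++ (pw zw 1 ++ tw)) 0 = false := by decide +kernel
theorem n_dt2 : idf (pw zw 2 ++ tw ++ subW du0) (subW du0 ++ (pw zw 2 ++ tw)) 0 = false := by decide +kernel
theorem n_dt3 : idf (pw zw 3 ++ tw ++ subW du0) (subW du0 ++ (pw zw 3 ++ tw)) 0 = false := by decide +kernel
theorem n_dt4 : idf (pw zw 4 ++ tw ++ subW du0) (subW du0 ++ (pw zw 4 ++ tw)) 0 = false := by decide +kernel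
theorem n_dt5 : idf (pw zw 5 ++ tw ++ subW du0) (subW du0 ++ (pw zw 5 ++ tw)) 0 = false := by decide +kernel
theorem n_dt6 : idf (pw zw 6 ++ tw ++ subW du0) (subW du0 ++ (pw zw 6 ++ tw)) 0 = false := by decide +kernel
theorem n_dt7 : idf (pw zw 7 ++ tw ++ subW du0) (subW du0 ++ (pw zw 7 ++ tw)) 0 = false := by decide +kernel

end Cfsg.Agent.H10.HO
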